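import Cfsg.Agent.Lib.Dim3Max.UPair
import Cfsg.Agent.Lib.Dim3Max.LinSubfield

/-!
Overgroups of a rational unitary group in dimension three: a larger weight at a rational point gives everything,
and without one every image of a rational isotropic point is rational.
-/

set_option autoImplicit false
set_option linter.unusedSectionVars false
set_option linter.unusedSimpArgs false
set_option linter.style.haveILetI false

namespace CfsgLib.Dim3Max.USub

open scoped Matrix MatrixGroups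
open CfsgLib.Maximal

universe u

variable {F : Type u} [Field F] [Fintype F] {q r : ℕ} {τ : F ≃+* F} {F₀ : Subfield F}

local notation "hh" => hf3 F q
local notation "VV" => (Fin 3 → F)
local notation "M3" => Matrix (Fin 3) (Fin 3) F

/-- The rational structure. -/
structure Data (q r : ℕ) (τ : F ≃+* F) (F₀ : Subfield F) : Prop where
  setup : USetup (F := F) q τ
  prime : r.Prime
  ne_two : r ≠ 2
  card : Fintype.card F = Nat.card F₀ ^ r
  tau_mem : ∀ x ∈ F₀, τ x ∈ F₀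
  moved : ∃ x ∈ F₀, τ x ≠ x

/-- A subgroup between the rational one and the unitary group. -/
structure Over (q : ℕ) (F₀ : Subfield F) (M : Subgroup (GL (Fin 3) F)) : Prop where
  le : M ≤ su3 F q
  mem : ∀ g : GL (Fin 3) F, g ∈ su3 F q → RatUpToScalar F₀ g → g ∈ M

/-- No larger weights at rational points. -/
def Small (q : ℕ) (F₀ : Subfield F) (M : Subgroup (GL (Fin 3) F)) : Prop :=
  ∀ u : Fin 3 → F, RatV F₀ u → u ≠ 0 → hf3 F q u u = 0 →
    ∀ k : F, Has M (k • u) (fvec (hf3 F q) u) → k ∈ F₀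

/-- A rational hyperbolic pair and a rational vector perpendicular to it. -/
structure Frame (q : ℕ) (F₀ : Subfield F) (a b c : Fin 3 → F) : Prop where
  ra : RatV F₀ a
  rb : RatV F₀ b
  rc : RatV F₀ c
  aa : hf3 F q a a = 0
  bb : hf3 F q b b = 0
  ab : hf3 F q a b = 1
  ba : hf3 F q b a = 1
  ca : hf3 F q c a = 0
  cb : hf3 F q c b = 0
  ne : c ≠ 0

variable (hD : Data q r τ F₀)
include hD

theorem Data.hh_eq (u v : VV) : hh u v = u 0 * τ (v 0) + u 1 * τ (v 1) + u 2 * τ (v 2) := by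
  simp only [hf3, Cfsg.hermForm, Fin.sum_univ_three, hD.setup.pow]

theorem Data.hh_mem {u v : VV} (hu : RatV F₀ u) (hv : RatV F₀ v) : hh u v ∈ F₀ := by
  rw [hD.hh_eq]
  exact F₀.add_mem (F₀.add_mem (F₀.mul_mem (hu 0) (hD.tau_mem _ (hv 0))) (F₀.mul_mem (hu 1) (hD.tau_mem _ (hv 1))))
    (F₀.mul_mem (hu 2) (hD.tau_mem _ (hv 2)))

theorem Data.fvec_rat {v : VV} (hv : RatV F₀ v) : RatV F₀ (fvec hh v) := fun _ =>
  hD.hh_mem (ratV_single _ F₀.one_mem) hv

/-- A root of a rational monic quadratic is rational. -/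
theorem Data.quad {z s p : F} (hs : s ∈ F₀) (hp : p ∈ F₀) (h : z * z - s * z + p = 0) : z ∈ F₀ := by
  classical
  have hfr : Module.finrank F₀ F = r := by
    have h1 := Module.card_eq_pow_finrank (K := F₀) (V := F)
    rw [hD.card, Nat.card_eq_fintype_card] at h1
    exact (Nat.pow_right_injective Fintype.one_lt_card h1).symm
  have hint : IsIntegral F₀ z := Algebra.IsIntegral.isIntegral z
  let P : Polynomial F₀ := Polynomial.X ^ 2 - Polynomial.C ⟨s, hs⟩ * Polynomial.X + Polynomial.C ⟨p, hp⟩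
  have hdeg : P.natDegree = 2 := by simp only [P]; compute_degree!
  have hz : Polynomial.aeval z P = 0 := by
    simp only [P, map_add, map_sub, map_mul, map_pow, Polynomial.aeval_X, Polynomial.aeval_C]
    show z ^ 2 - s * z + p = 0
    linear_combination h
  have h1 : (minpoly F₀ z).natDegree ≤ 2 :=
    hdeg ▸ Polynomial.natDegree_le_of_dvd (minpoly.dvd F₀ z hz) (fun e => by simp [e] at hdeg)
  have h2 : (minpoly F₀ z).natDegree ∣ r := hfr ▸ minpoly.degree_dvd hint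
  rcases (Nat.dvd_prime hD.prime).1 h2 with h3 | h3
  · obtain ⟨x, rfl⟩ := minpoly.natDegree_eq_one_iff.1 h3
    exact x.2
  · have := hD.prime.two_le
    have := hD.ne_two
    omega

/-- Rational trace and norm. -/
theorem Data.tr_norm {z : F} (hs : z + τ z ∈ F₀) (hp : z * τ z ∈ F₀) : z ∈ F₀ :=
  hD.quad hs hp (by ring)

theorem Data.skew : ∃ k ∈ F₀, k ≠ 0 ∧ τ k = -k := by
  obtain ⟨x, hx, hx'⟩ := hD.moved
  exact ⟨x - τ x, F₀.sub_mem hx (hD.tau_mem x hx), sub_ne_zero.2 (Ne.symm hx'),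
    by rw [map_sub, hD.setup.form.involutive]; ring⟩

theorem Data.trace_one : ∃ θ ∈ F₀, θ ≠ 0 ∧ θ + τ θ = 1 := by
  obtain ⟨x, hx, hx'⟩ := hD.moved
  have h1 : x - τ x ≠ 0 := sub_ne_zero.2 (Ne.symm hx')
  have h2 : τ x - x ≠ 0 := sub_ne_zero.2 hx'
  refine ⟨x / (x - τ x), F₀.div_mem hx (F₀.sub_mem hx (hD.tau_mem x hx)),
    div_ne_zero (fun e => hx' (by rw [e, map_zero])) h1, ?_⟩
  rw [map_div₀, map_sub, hD.setup.form.involutive]
  field_simp
  ring

theorem Data.exists_frame : ∃ a b c : VV, Frame q F₀ a b c := by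
  classical
  let σ : F₀ →+* F₀ := RingHom.restrict (τ : F →+* F) F₀ F₀ hD.tau_mem
  obtain ⟨x, hx, hx'⟩ := hD.moved
  have hσ : σ ≠ RingHom.id F₀ := fun e =>
    hx' (congrArg Subtype.val (RingHom.congr_fun e ⟨x, hx⟩))
  obtain ⟨⟨μ, hμm⟩, hμ⟩ := CfsgLib.Geometry.exists_norm_eq hσ
    (fun a => Subtype.ext (hD.setup.form.involutive a.1)) (c := -1) (by rw [map_neg, map_one])
  have hμ' : μ * τ μ = -1 := congrArg Subtype.val hμ
  have hx0 : x ≠ 0 := fun e => hx' (by rw [e, map_zero])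
  have hτx0 : τ x ≠ 0 := (map_ne_zero _).2 hx0
  obtain ⟨t, ht⟩ : ∃ t, t = x / τ x := ⟨_, rfl⟩
  have htm : t ∈ F₀ := ht ▸ F₀.div_mem hx (hD.tau_mem x hx)
  have htt : t * τ t = 1 := by
    rw [ht, map_div₀, hD.setup.form.involutive]; field_simp
  obtain ⟨a, ha⟩ : ∃ a : VV, a = ![1, μ, 0] := ⟨_, rfl⟩
  obtain ⟨b', hb'⟩ : ∃ b' : VV, b' = ![1, μ * t, 0] := ⟨_, rfl⟩
  have ra : RatV F₀ a := fun i => by
    fin_cases i <;> simp [ha, F₀.one_mem, F₀.zero_mem, hμm]
  have rb' : RatV F₀ b' := fun i => by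
    fin_cases i <;> simp [hb', F₀.one_mem, F₀.zero_mem, F₀.mul_mem hμm htm]
  have hab : hh a b' = 1 - τ t := by
    rw [hD.hh_eq, ha, hb']; simp; linear_combination (τ t) * hμ'
  have hne : hh a b' ≠ 0 := by
    intro e
    rw [hab, sub_eq_zero] at e
    refine hx' ?_
    have h3 := e.symm
    rw [ht, map_div₀, hD.setup.form.involutive, div_eq_one_iff_eq hx0] at h3
    exact h3
  obtain ⟨s, hs⟩ : ∃ s, s = (τ (hh a b'))⁻¹ := ⟨_, rfl⟩
  have rb : RatV F₀ (s • b') := rb'.smul (hs ▸ F₀.inv_mem (hD.tau_mem _ (hD.hh_mem ra rb')))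
  have h1 : hh a (s • b') = 1 := by
    rw [un_smul_right hD.setup.form, hs, map_inv₀, hD.setup.form.involutive, inv_mul_cancel₀ hne]
  obtain ⟨c, rc, hc, hca, hcb⟩ := LinSub.exists_rat_ann (hD.fvec_rat ra) (hD.fvec_rat rb)
  rw [dotProduct_comm, un_dot hD.setup.form] at hca hcb
  refine ⟨a, s • b', c, ra, rb, rc, ?_, ?_, h1, ?_, hca, hcb, hc⟩
  · rw [hD.hh_eq, ha]; simp; linear_combination hμ'
  · rw [hD.setup.form.smul_left, un_smul_right hD.setup.form,
      show hh b' b' = 0 by rw [hD.hh_eq, hb']; simp; linear_combination (t * τ t) * hμ' - htt]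
    simp
  · rw [hD.setup.form.herm, h1, map_one]

section frame

variable {a b c : Fin 3 → F} (hf : Frame q F₀ a b c)
include hf

theorem Frame.symm : Frame q F₀ b a c :=
  ⟨hf.rb, hf.ra, hf.rc, hf.bb, hf.aa, hf.ba, hf.ab, hf.cb, hf.ca, hf.ne⟩

theorem Frame.cc : hh c c ≠ 0 :=
  (hD.setup.frame hf.aa hf.bb (by rw [hf.ab]; exact one_ne_zero) hf.ca hf.cb hf.ne).1

theorem Frame.expand (x : VV) : x = hh x b • a + hh x a • b + (hh x c / hh c c) • c := by
  have h := (hD.setup.frame hf.aa hf.bb (by rw [hf.ab]; exact one_ne_zero) hf.ca hf.cb hf.ne).2 x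
  rwa [hf.ab, hf.ba, div_one, div_one] at h

theorem Frame.ac : hh a c = 0 := hD.setup.flip hf.ca

theorem Frame.bc : hh b c = 0 := hD.setup.flip hf.cb

/-- Matrices rational on a frame are rational. -/
theorem Frame.ratM {G : M3} (ha : RatV F₀ (G *ᵥ a)) (hb : RatV F₀ (G *ᵥ b)) (hc : RatV F₀ (G *ᵥ c)) :
    RatM F₀ G := by
  intro i j
  have hj : RatV F₀ (Pi.single j 1 : VV) := ratV_single j F₀.one_mem
  have h := congrArg (G *ᵥ ·) (hf.expand hD (Pi.single j 1))
  simp only [Matrix.mulVec_add, Matrix.mulVec_smul] at h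
  have h1 : RatV F₀ (G *ᵥ (Pi.single j 1 : VV)) := h ▸ fun i => F₀.add_mem
    (F₀.add_mem ((ha.smul (hD.hh_mem hj hf.rb)) i) ((hb.smul (hD.hh_mem hj hf.ra)) i))
    ((hc.smul (F₀.div_mem (hD.hh_mem hj hf.rc) (hD.hh_mem hf.rc hf.rc))) i)
  simpa using h1 i

/-- Matrices agreeing on a frame are equal. -/
theorem Frame.ext {G G' : M3} (ha : G *ᵥ a = G' *ᵥ a) (hb : G *ᵥ b = G' *ᵥ b) (hc : G *ᵥ c = G' *ᵥ c) :
    G = G' := by
  refine CfsgLib.Geometry.matrix_eq_of_mulVec fun x => ?_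
  rw [hf.expand hD x]
  simp only [Matrix.mulVec_add, Matrix.mulVec_smul, ha, hb, hc]

/-- A third rational isotropic point. -/
theorem Frame.third : ∃ t ∈ F₀, t ≠ 0 ∧ t + τ t + hh c c = 0 ∧ RatV F₀ (a + t • b + c) ∧
    hh (a + t • b + c) (a + t • b + c) = 0 := by
  obtain ⟨θ, hθ, hθ0, hθ1⟩ := hD.trace_one
  have he : τ (hh c c) = hh c c := (hD.setup.form.herm c c).symm
  refine ⟨-(θ * hh c c), F₀.neg_mem (F₀.mul_mem hθ (hD.hh_mem hf.rc hf.rc)),
    neg_ne_zero.2 (mul_ne_zero hθ0 (hf.cc hD)), ?_, fun i => F₀.add_mem (F₀.add_mem (hf.ra i)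
      (F₀.mul_mem (F₀.neg_mem (F₀.mul_mem hθ (hD.hh_mem hf.rc hf.rc))) (hf.rb i))) (hf.rc i), ?_⟩
  · rw [map_neg, map_mul, he]; linear_combination -(hh c c) * hθ1
  · simp only [hD.setup.form.add_left, un_add_right hD.setup.form, hD.setup.form.smul_left,
      un_smul_right hD.setup.form, hf.aa, hf.bb, hf.ab, hf.ba, hf.ca, hf.cb, hf.ac hD, hf.bc hD, map_neg,
      map_mul, he]
    linear_combination -(hh c c) * hθ1

end frame

variable {M : Subgroup (GL (Fin 3) F)}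

/-- Rational elations. -/
theorem Over.has (hM : Over q F₀ M) {v : VV} (hv : RatV F₀ v) (hvv : hh v v = 0) {k : F} (hk : k ∈ F₀)
    (hkτ : τ k = -k) : Has M (k • v) (fvec hh v) :=
  ⟨_, hM.mem _ (utv_mem_su hD.setup.form hvv hkτ) ⟨1, one_ne_zero, by
    rw [one_smul, tv_val]; exact ratM_one.add (ratM_vecMulVec (hv.smul hk) (hD.fvec_rat hv))⟩⟩

theorem Over.irr (hM : Over q F₀ M) : Irr M := by
  intro W hW
  refine or_iff_not_imp_left.2 fun hW0 => ?_
  obtain ⟨x, hxW, hx0⟩ := W.exists_mem_ne_zero_of_ne_bot hW0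
  obtain ⟨k, hk, hk0, hkτ⟩ := hD.skew
  have step : ∀ u v : VV, u ∈ W → RatV F₀ v → hh v v = 0 → hh u v ≠ 0 → v ∈ W := by
    intro u v hu hv hvv huv
    obtain ⟨h0, hm⟩ := hM.has hD hv hvv hk hkτ
    have h1 := hW _ ⟨_, hm, rfl⟩ ⟨u, hu, rfl⟩
    rw [Matrix.toLin'_apply, tv_mulVec, un_dot hD.setup.form, smul_smul] at h1
    exact (W.smul_mem_iff (mul_ne_zero huv hk0)).1 ((W.add_mem_iff_right hu).1 h1)
  obtain ⟨a, b, c, hf⟩ := hD.exists_frame
  obtain ⟨t, ht, ht0, -, hr, hzz⟩ := hf.third hD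
  set z := a + t • b + c with hz
  have hza : hh z a = t := by
    simp [hz, hD.setup.form.add_left, hD.setup.form.smul_left, hf.aa, hf.ba, hf.ca]
  have hzb : hh z b = 1 := by
    simp [hz, hD.setup.form.add_left, hD.setup.form.smul_left, hf.ab, hf.bb, hf.cb]
  have haW : a ∈ W := by
    by_cases h1 : hh x a ≠ 0
    · exact step x a hxW hf.ra hf.aa h1
    by_cases h2 : hh x b ≠ 0
    · exact step b a (step x b hxW hf.rb hf.bb h2) hf.ra hf.aa (by rw [hf.ba]; exact one_ne_zero)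
    push Not at h1 h2
    refine step z a (step x z hxW hr hzz fun e => hx0 ?_) hf.ra hf.aa (by rw [hza]; exact ht0)
    simp only [hz, un_add_right hD.setup.form, un_smul_right hD.setup.form, h1, h2, mul_zero, zero_add] at e
    rw [hf.expand hD x, h1, h2, e]; simp
  have hbW : b ∈ W := step a b haW hf.rb hf.bb (by rw [hf.ab]; exact one_ne_zero)
  have hzW : z ∈ W := step b z hbW hr hzz (hD.setup.flip_ne (by rw [hzb]; exact one_ne_zero))
  have hcW : c ∈ W := by
    convert W.sub_mem (W.sub_mem hzW haW) (W.smul_mem t hbW) using 1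
    rw [hz]; abel
  refine eq_top_iff.2 fun v _ => ?_
  rw [hf.expand hD v]
  exact W.add_mem (W.add_mem (W.smul_mem _ haW) (W.smul_mem _ hbW)) (W.smul_mem _ hcW)

/-- The fixed rational elements give a root field at each rational isotropic point. -/
theorem Over.uroot (hM : Over q F₀ M) {v : VV} (hv : RatV F₀ v) (hv0 : v ≠ 0) (hvv : hh v v = 0) {k : F}
    (hk : k ∈ F₀) (hk0 : k ≠ 0) (hkτ : τ k = -k) : URoot q τ M (F₀ ⊓ fixedτ τ) k v :=
  ⟨hv0, hvv, hk0, hkτ, fun _ hx => mem_fixedτ.1 hx.2, fun x hx => hM.has hD hv hvv (F₀.mul_mem hx.1 hk) (by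
    rw [map_mul, hkτ, mem_fixedτ.1 hx.2, mul_neg])⟩

theorem Data.plus_eq_two (h : Nat.card ↥(F₀ ⊓ fixedτ τ) = 2) {x : F} (hx : x ∈ F₀) (hxτ : τ x = x) :
    x = 0 ∨ x = 1 := by
  obtain ⟨y, -, hy⟩ := (Nat.card_eq_two_iff' (0 : ↥(F₀ ⊓ fixedτ τ))).1 h
  rcases eq_or_ne x 0 with h0 | h0
  · exact Or.inl h0
  · have h1 := hy ⟨x, hx, mem_fixedτ.2 hxτ⟩ (fun e => h0 (congrArg Subtype.val e))
    have h1' := hy 1 one_ne_zero
    exact Or.inr (congrArg Subtype.val (h1.trans h1'.symm))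

theorem Data.char_two (h : Nat.card ↥(F₀ ⊓ fixedτ τ) = 2) : (2 : F) = 0 := by
  have h2 : (2 : F) ∈ F₀ := by exact_mod_cast natCast_mem F₀ 2
  refine (hD.plus_eq_two h h2 (map_ofNat τ 2)).resolve_right fun e => one_ne_zero (α := F) ?_
  linear_combination e

/-- A field of fixed elements above the rational ones is the whole fixed field. -/
theorem Data.tower {K : Subfield F} (hK : ∀ x ∈ K, τ x = x) (hle : F₀ ⊓ fixedτ τ ≤ K) {ξ : F} (hξ : ξ ∈ K)
    (hξ' : ξ ∉ F₀) {z : F} (hz : τ z = z) : z ∈ K := by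
  classical
  obtain ⟨ω, hω, hω'⟩ := hD.moved
  have hfix : ∀ x ∈ F₀, τ x = x → x ∈ K := fun x hx hx' => hle ⟨hx, mem_fixedτ.2 hx'⟩
  have hp : ω + τ ω ∈ K := hfix _ (F₀.add_mem hω (hD.tau_mem _ hω)) (by
    rw [map_add, hD.setup.form.involutive, add_comm])
  have hn : ω * τ ω ∈ K := hfix _ (F₀.mul_mem hω (hD.tau_mem _ hω)) (by
    rw [map_mul, hD.setup.form.involutive, mul_comm])
  have hdec : ∀ x ∈ F₀, ∃ u ∈ K, ∃ v ∈ K, x = u + v * ω := by
    intro x hx
    have hne : ω - τ ω ≠ 0 := sub_ne_zero.2 (Ne.symm hω')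
    have hne' : τ ω - ω ≠ 0 := sub_ne_zero.2 hω'
    refine ⟨x - (x - τ x) / (ω - τ ω) * ω, hfix _ ?_ ?_, (x - τ x) / (ω - τ ω), hfix _ ?_ ?_, by ring⟩
    · exact F₀.sub_mem hx (F₀.mul_mem (F₀.div_mem (F₀.sub_mem hx (hD.tau_mem _ hx))
        (F₀.sub_mem hω (hD.tau_mem _ hω))) hω)
    · simp only [map_sub, map_mul, map_div₀, hD.setup.form.involutive]
      field_simp
      ring
    · exact F₀.div_mem (F₀.sub_mem hx (hD.tau_mem _ hx)) (F₀.sub_mem hω (hD.tau_mem _ hω))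
    · simp only [map_sub, map_div₀, hD.setup.form.involutive]
      field_simp
      ring
  let R : Subalgebra F₀ F :=
    { carrier := {x | ∃ u ∈ K, ∃ v ∈ K, x = u + v * ω}
      one_mem' := ⟨1, K.one_mem, 0, K.zero_mem, by simp⟩
      zero_mem' := ⟨0, K.zero_mem, 0, K.zero_mem, by simp⟩
      add_mem' := by
        rintro _ _ ⟨u, hu, v, hv, rfl⟩ ⟨u', hu', v', hv', rfl⟩
        exact ⟨u + u', K.add_mem hu hu', v + v', K.add_mem hv hv', by ring⟩
      mul_mem' := by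
        rintro _ _ ⟨u, hu, v, hv, rfl⟩ ⟨u', hu', v', hv', rfl⟩
        refine ⟨u * u' - v * v' * (ω * τ ω), K.sub_mem (K.mul_mem hu hu') (K.mul_mem (K.mul_mem hv hv') hn),
          u * v' + v * u' + v * v' * (ω + τ ω),
          K.add_mem (K.add_mem (K.mul_mem hu hv') (K.mul_mem hv hu')) (K.mul_mem (K.mul_mem hv hv') hp), ?_⟩
        ring
      algebraMap_mem' := fun x => hdec x x.2 }
  have hfr : Module.finrank F₀ F = r := by
    have h1 := Module.card_eq_pow_finrank (K := F₀) (V := F)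
    rw [hD.card, Nat.card_eq_fintype_card] at h1
    exact (Nat.pow_right_injective Fintype.one_lt_card h1).symm
  haveI := Subalgebra.isSimpleOrder_of_finrank_prime F₀ F (hfr ▸ hD.prime)
  rcases eq_bot_or_eq_top R with hR | hR
  · exfalso
    have h1 : ξ ∈ (⊥ : Subalgebra F₀ F) :=
      hR ▸ (show ξ ∈ R from ⟨ξ, hξ, 0, K.zero_mem, by simp⟩)
    obtain ⟨x, hx⟩ := Algebra.mem_bot.1 h1
    exact hξ' (hx ▸ x.2)
  · obtain ⟨u, hu, v, hv, rfl⟩ : z ∈ R := hR ▸ Algebra.mem_top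
    rw [map_add, map_mul, hK u hu, hK v hv, add_right_inj] at hz
    rcases eq_or_ne v 0 with rfl | hv0
    · simpa using hu
    · exact absurd (mul_left_cancel₀ hv0 hz) hω'

/-- A root field above the rational one gives everything. -/
theorem Over.top_of_root (hM : Over q F₀ M) {K : Subfield F} {k : F} {v : VV} (h : URoot q τ M K k v)
    (hle : F₀ ⊓ fixedτ τ ≤ K) {ξ : F} (hξ : ξ ∈ K) (hξ' : ξ ∉ F₀) : su3 F q ≤ M := by
  obtain ⟨hv, hvv, hk, hkτ, hK, hroot⟩ := h
  refine uFullStmt hD.setup M hM.le (hM.irr hD) v hv hvv fun k' hk' => ?_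
  have h1 := hroot (k' / k) (hD.tower hK hle hξ hξ' (by rw [map_div₀, hk', hkτ, neg_div_neg_eq]))
  rwa [div_mul_cancel₀ _ hk] at h1

/-- Two commuting involutions over the field with two elements give everything. -/
theorem Over.top_of_rank (hM : Over q F₀ M) (h2 : Nat.card ↥(F₀ ⊓ fixedτ τ) = 2) (hR : ¬ RankOne M) :
    su3 F q ≤ M := by
  obtain ⟨K, k, v, h4, hroot⟩ := uFourStmt hD.setup (hD.char_two h2) M hM.le (hM.irr hD) hR
  obtain ⟨ξ, hξ, hξ'⟩ : ∃ ξ ∈ K, ξ ∉ F₀ := by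
    by_contra hcon
    push Not at hcon
    have hle : K ≤ F₀ ⊓ fixedτ τ := fun x hx => ⟨hcon x hx, mem_fixedτ.2 (hroot.2.2.2.2.1 x hx)⟩
    have h5 := Nat.card_le_card_of_injective (fun x : K => (⟨x.1, hle x.2⟩ : ↥(F₀ ⊓ fixedτ τ)))
      (fun x y e => Subtype.ext (congrArg (fun z : ↥(F₀ ⊓ fixedτ τ) => (z : F)) e))
    omega
  refine hM.top_of_root hD hroot (fun x hx => ?_) hξ hξ'
  rcases hD.plus_eq_two h2 hx.1 (mem_fixedτ.1 hx.2) with rfl | rfl
  exacts [K.zero_mem, K.one_mem]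

/-- A larger weight gives everything. -/
theorem Over.top_of_big (hM : Over q F₀ M) (hsm : ¬ Small q F₀ M) : su3 F q ≤ M := by
  simp only [Small, not_forall] at hsm
  obtain ⟨u, hu, hu0, huu, k, hX, hk⟩ := hsm
  have hkτ := hD.setup.weight_skew hM.le hu0 hX
  obtain ⟨k₀, hk₀, hk₀0, hk₀τ⟩ := hD.skew
  have hk0 : k ≠ 0 := fun e => hk (e ▸ F₀.zero_mem)
  by_cases h2 : Nat.card ↥(F₀ ⊓ fixedτ τ) = 2
  · refine hM.top_of_rank hD h2 fun hR => hk ?_
    have hc := hD.char_two h2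
    obtain ⟨h0, hm⟩ := hX
    obtain ⟨h0', hm'⟩ := hM.has hD hu huu hk₀ hk₀τ
    have hφ : fvec hh u ≠ 0 := fun e => hu0 (un_fvec_injective hD.setup.form (e.trans (un_fvec_zero hD.setup.form).symm))
    have hord : ∀ (m : F) (h : fvec hh u ⬝ᵥ (m • u) = 0), m ≠ 0 → orderOf (tv (m • u) (fvec hh u) h) = 2 := by
      intro m h hm0
      refine orderOf_eq_prime (p := 2) ?_ fun e => ?_
      · refine Units.ext ?_
        rw [pow_two, Units.val_mul, tv_val, add_mul, one_mul, mul_add, mul_one, Matrix.vecMulVec_mul_vecMulVec, h,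
          zero_smul, Matrix.vecMulVec_zero, add_zero, Units.val_one]
        refine Matrix.ext fun i j => ?_
        simp only [Matrix.add_apply]
        linear_combination (Matrix.vecMulVec (m • u) (fvec hh u) i j) * hc
      · have e' := congrArg (fun g : GL (Fin 3) F => (g : M3)) e
        rw [tv_val, Units.val_one, add_eq_left, Matrix.vecMulVec_eq_zero] at e'
        exact e'.elim (smul_ne_zero hm0 hu0) hφ
    have e := hR _ hm _ hm' (hord k h0 hk0) (hord k₀ h0' hk₀0) (by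
      refine Units.ext ?_
      simp only [Units.val_mul, tv_val, add_mul, mul_add, one_mul, mul_one, Matrix.vecMulVec_mul_vecMulVec, h0, h0',
        zero_smul, Matrix.vecMulVec_zero, add_zero]
      abel)
    have e' := congrArg (fun g : GL (Fin 3) F => (g : M3)) e
    rw [tv_val, tv_val, add_right_inj, ← sub_eq_zero, ← Matrix.sub_vecMulVec, ← sub_smul,
      Matrix.vecMulVec_eq_zero] at e'
    rw [sub_eq_zero.1 ((smul_eq_zero.1 (e'.resolve_right hφ)).resolve_right hu0)]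
    exact hk₀
  obtain ⟨a, b, c, hf⟩ := hD.exists_frame
  obtain ⟨w, hw, hw0, hww, huw⟩ : ∃ w, RatV F₀ w ∧ w ≠ 0 ∧ hh w w = 0 ∧ hh u w ≠ 0 := by
    by_cases ha : hh u a = 0
    swap
    · exact ⟨a, hf.ra, fun e => ha (by rw [e, un_zero_right hD.setup.form]), hf.aa, ha⟩
    by_cases hb : hh u b = 0
    swap
    · exact ⟨b, hf.rb, fun e => hb (by rw [e, un_zero_right hD.setup.form]), hf.bb, hb⟩
    exfalso
    have e := hf.expand hD u
    rw [ha, hb, zero_smul, zero_smul, zero_add, zero_add] at e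
    have e2 := huu
    rw [e, hD.setup.form.smul_left, un_smul_right hD.setup.form, mul_eq_zero, mul_eq_zero, map_eq_zero] at e2
    rcases e2 with h | h | h
    · exact hu0 (by rw [e, h, zero_smul])
    · exact hu0 (by rw [e, h, zero_smul])
    · exact hf.cc hD h
  obtain ⟨N, hN⟩ : ∃ N, N = hh w u * hh u w := ⟨_, rfl⟩
  have hNm : N ∈ F₀ := hN ▸ F₀.mul_mem (hD.hh_mem hw hu) (hD.hh_mem hu hw)
  have hN0 : N ≠ 0 := hN ▸ mul_ne_zero (hD.setup.flip_ne huw) huw
  have hξ : k₀ * k * N ∉ F₀ := fun h => hk (by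
    have h1 := F₀.mul_mem h (F₀.inv_mem (F₀.mul_mem hk₀ hNm))
    convert h1 using 1
    field_simp)
  have hroot := uPairStmt hD.setup M hM.le _ k₀ k w u (hM.uroot hD hw hw0 hww hk₀ hk₀0 hk₀τ) hkτ huu hX
    (by rw [← hN]; exact mul_ne_zero (mul_ne_zero hk₀0 hk0) hN0) h2
    (fun _ e => hξ (mem_of_mul_self_mem hD.prime hD.ne_two hD.card (by
      rw [← hN] at e
      rw [← sq, e]; exact F₀.neg_mem F₀.one_mem)))
  rw [← hN] at hroot
  exact hM.top_of_root hD hroot (fun x hx => Subfield.subset_closure (Or.inl hx))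
    (Subfield.subset_closure (Or.inr rfl)) hξ

/-- A vector with rational norms against all rational isotropic points is rational. -/
theorem Data.rat_of_norms {a b c v : VV} (hf : Frame q F₀ a b c) (hvv : hh v v = 0) (hva : hh v a = 1)
    (hn : ∀ w, RatV F₀ w → hh w w = 0 → hh v w * τ (hh v w) ∈ F₀) : RatV F₀ v := by
  have H := hD.setup
  have hinv := H.form.involutive
  obtain ⟨u, hu⟩ : ∃ u, u = hh v b := ⟨_, rfl⟩
  obtain ⟨w, hw⟩ : ∃ w, w = hh v c := ⟨_, rfl⟩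
  obtain ⟨e, he⟩ : ∃ e, e = hh c c := ⟨_, rfl⟩
  have hem : e ∈ F₀ := he ▸ hD.hh_mem hf.rc hf.rc
  have he0 : e ≠ 0 := he ▸ hf.cc hD
  have heτ : τ e = e := he ▸ (H.form.herm c c).symm
  have hexp : v = u • a + b + (w / e) • c := by
    have h := hf.expand hD v
    rwa [hva, one_smul, ← hu, ← hw, ← he] at h
  have hiso : u + τ u + w * τ w / e = 0 := by
    have h := hvv
    rw [hexp] at h
    simp only [H.form.add_left, un_add_right H.form, H.form.smul_left, un_smul_right H.form, hf.aa, hf.bb, hf.ab,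
      hf.ba, hf.ca, hf.cb, hf.ac hD, hf.bc hD, ← he, map_div₀, heτ] at h
    field_simp at h ⊢
    linear_combination h
  have hdot : ∀ t s : F, hh v (a + t • b + s • c) = 1 + τ t * u + τ s * w := by
    intro t s
    rw [un_add_right H.form, un_add_right H.form, un_smul_right H.form, un_smul_right H.form, hva, ← hu, ← hw]
  have hwn : ∀ t s : F, t ∈ F₀ → s ∈ F₀ → t + τ t + s * τ s * e = 0 →
      (1 + τ t * u + τ s * w) * (1 + t * τ u + s * τ w) ∈ F₀ := by
    intro t s ht hs h0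
    have := hn (a + t • b + s • c)
      (fun i => F₀.add_mem (F₀.add_mem (hf.ra i) (F₀.mul_mem ht (hf.rb i))) (F₀.mul_mem hs (hf.rc i))) (by
        simp only [H.form.add_left, un_add_right H.form, H.form.smul_left, un_smul_right H.form, hf.aa, hf.bb,
          hf.ab, hf.ba, hf.ca, hf.cb, hf.ac hD, hf.bc hD, ← he]
        linear_combination h0)
    rwa [hdot, map_add, map_add, map_one, map_mul, map_mul, hinv, hinv] at this
  have huu : u * τ u ∈ F₀ := hu ▸ hn b hf.rb hf.bb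
  obtain ⟨k, hk, hk0, hkτ⟩ := hD.skew
  have hdif : u - τ u ∈ F₀ := by
    have h1 := hwn k 0 hk F₀.zero_mem (by rw [hkτ]; simp)
    rw [hkτ, map_zero] at h1
    have h2 : k * (τ u - u) ∈ F₀ := by
      have h3 := F₀.add_mem (F₀.sub_mem h1 F₀.one_mem) (F₀.mul_mem (F₀.mul_mem hk hk) huu)
      convert h3 using 1
      ring
    have h4 := F₀.neg_mem (F₀.mul_mem (F₀.inv_mem hk) h2)
    convert h4 using 1
    field_simp
    ring
  have htr : u + τ u ∈ F₀ := by
    by_cases h2 : (2 : F) = 0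
    · convert hdif using 1
      linear_combination τ u * h2
    · refine mem_of_mul_self_mem hD.prime hD.ne_two hD.card ?_
      have h4 : (4 : F) ∈ F₀ := by exact_mod_cast natCast_mem F₀ 4
      have h3 := F₀.add_mem (F₀.mul_mem hdif hdif) (F₀.mul_mem h4 huu)
      convert h3 using 1
      ring
  have hum : u ∈ F₀ := hD.tr_norm htr huu
  have hww : w * τ w ∈ F₀ := by
    have h3 := F₀.neg_mem (F₀.mul_mem hem htr)
    convert h3 using 1
    field_simp at hiso
    linear_combination hiso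
  obtain ⟨θ, hθ, -, hθ1⟩ := hD.trace_one
  obtain ⟨t, ht, ht1, hc0⟩ : ∃ t ∈ F₀, t + τ t + e = 0 ∧ 1 + τ t * u ≠ 0 := by
    have h0 : -(θ * e) + τ (-(θ * e)) + e = 0 := by
      rw [map_neg, map_mul, heτ]; linear_combination -e * hθ1
    by_cases h : 1 + τ (-(θ * e)) * u = 0
    · refine ⟨-(θ * e) + k, F₀.add_mem (F₀.neg_mem (F₀.mul_mem hθ hem)) hk, ?_, fun h' => ?_⟩
      · rw [map_add, hkτ]; linear_combination h0
      · rw [map_add, hkτ] at h'
        have hu0 : k * u = 0 := by linear_combination h - h'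
        rw [(mul_eq_zero.1 hu0).resolve_left hk0] at h
        simp at h
    · exact ⟨_, F₀.neg_mem (F₀.mul_mem hθ hem), h0, h⟩
  obtain ⟨c₀, hc₀⟩ : ∃ c₀, c₀ = 1 + τ t * u := ⟨_, rfl⟩
  have hc₀m : c₀ ∈ F₀ := hc₀ ▸ F₀.add_mem F₀.one_mem (F₀.mul_mem (hD.tau_mem _ ht) hum)
  have hc₀0 : τ c₀ ≠ 0 := (map_ne_zero _).2 (hc₀ ▸ hc0)
  have hz : τ c₀ * w ∈ F₀ := by
    refine hD.tr_norm ?_ ?_
    · have h1 := hwn t 1 ht F₀.one_mem (by rw [map_one]; linear_combination ht1)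
      rw [map_one] at h1
      have h2 := F₀.sub_mem (F₀.sub_mem h1 (F₀.mul_mem hc₀m (hD.tau_mem _ hc₀m))) hww
      convert h2 using 1
      rw [map_mul, hinv, hc₀, map_add, map_one, map_mul, hinv]
      ring
    · have h2 := F₀.mul_mem (F₀.mul_mem hc₀m (hD.tau_mem _ hc₀m)) hww
      convert h2 using 1
      rw [map_mul, hinv]
      ring
  have hwm : w ∈ F₀ := by
    have h2 := F₀.mul_mem (F₀.inv_mem (hD.tau_mem _ hc₀m)) hz
    convert h2 using 1
    field_simp
  rw [hexp]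
  exact fun i => F₀.add_mem (F₀.add_mem (F₀.mul_mem hum (hf.ra i)) (hf.rb i))
    (F₀.mul_mem (F₀.div_mem hwm hem) (hf.rc i))

/-- Without larger weights an elation of rational weight has a rational centre, up to a factor of rational norm. -/
theorem Over.line (hM : Over q F₀ M) (hsm : Small q F₀ M) (h2 : Nat.card ↥(F₀ ⊓ fixedτ τ) ≠ 2) {k : F}
    (hk : k ∈ F₀) (hk0 : k ≠ 0) (hkτ : τ k = -k) {v : VV} (hv0 : v ≠ 0) (hvv : hh v v = 0)
    (hX : Has M (k • v) (fvec hh v)) : ∃ γ : F, γ ≠ 0 ∧ γ * τ γ ∈ F₀ ∧ RatV F₀ (γ⁻¹ • v) := by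
  have H := hD.setup
  have hn : ∀ w, RatV F₀ w → hh w w = 0 → hh w v * hh v w ∈ F₀ := by
    intro w hw hww
    by_contra hne
    have hw0 : w ≠ 0 := fun e => hne (by rw [e, un_zero_left H.form, zero_mul]; exact F₀.zero_mem)
    have hξ : k * k * (hh w v * hh v w) ∉ F₀ := fun h => hne (by
      have h1 := F₀.mul_mem (F₀.inv_mem (F₀.mul_mem hk hk)) h
      convert h1 using 1
      field_simp)
    have hroot := uPairStmt H M hM.le _ k k w v (hM.uroot hD hw hw0 hww hk hk0 hkτ) hkτ hvv hX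
      (fun e => hξ (e ▸ F₀.zero_mem)) h2
      (fun _ e => hξ (mem_of_mul_self_mem hD.prime hD.ne_two hD.card (by
        rw [← sq, e]; exact F₀.neg_mem F₀.one_mem)))
    have h3 := hsm w hw hw0 hww _ (hroot.2.2.2.2.2 _ (Subfield.subset_closure (Or.inr rfl)))
    refine hξ ?_
    have h4 := F₀.mul_mem h3 (F₀.inv_mem hk)
    convert h4 using 1
    field_simp
  obtain ⟨a, b, c, hf, hva⟩ : ∃ a b c : VV, Frame q F₀ a b c ∧ hh v a ≠ 0 := by
    obtain ⟨a, b, c, hf⟩ := hD.exists_frame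
    by_cases ha : hh v a = 0
    swap
    · exact ⟨a, b, c, hf, ha⟩
    refine ⟨b, a, c, hf.symm hD, fun hb => ?_⟩
    have e := hf.expand hD v
    rw [ha, hb, zero_smul, zero_smul, zero_add, zero_add] at e
    have e2 := hvv
    rw [e, H.form.smul_left, un_smul_right H.form, mul_eq_zero, mul_eq_zero, map_eq_zero] at e2
    rcases e2 with h | h | h
    · exact hv0 (by rw [e, h, zero_smul])
    · exact hv0 (by rw [e, h, zero_smul])
    · exact hf.cc hD h
  obtain ⟨β, hβ⟩ : ∃ β, β = hh v a := ⟨_, rfl⟩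
  rw [← hβ] at hva
  have hτβ : τ β ≠ 0 := (map_ne_zero _).2 hva
  have hββ : β * τ β ∈ F₀ := by
    have := hn a hf.ra hf.aa
    rwa [H.form.herm a v, ← hβ, mul_comm] at this
  refine ⟨β, hva, hββ, hD.rat_of_norms hf ?_ ?_ fun w hw hww => ?_⟩
  · rw [H.form.smul_left, un_smul_right H.form, hvv, mul_zero, mul_zero]
  · rw [H.form.smul_left, ← hβ, inv_mul_cancel₀ hva]
  · have h1 := F₀.mul_mem (F₀.inv_mem hββ) (hn w hw hww)
    rw [H.form.smul_left, map_mul, map_inv₀, H.form.herm w v] at *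
    convert h1 using 1
    field_simp

/-- Without larger weights everything is rational. -/
theorem Over.rat (hM : Over q F₀ M) (hsm : Small q F₀ M) (h2 : Nat.card ↥(F₀ ⊓ fixedτ τ) ≠ 2)
    {g : GL (Fin 3) F} (hg : g ∈ M) : RatUpToScalar F₀ g := by
  have H := hD.setup
  obtain ⟨k, hk, hk0, hkτ⟩ := hD.skew
  obtain ⟨a, b, c, hf⟩ := hD.exists_frame
  obtain ⟨t, ht, ht0, -, hr, hzz⟩ := hf.third hD
  set G : M3 := (g : M3) with hG
  have hiso : ∀ x y, hh (G *ᵥ x) (G *ᵥ y) = hh x y := (mem_GU_iff g).1 (hM.le hg).1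
  have img : ∀ u : VV, RatV F₀ u → u ≠ 0 → hh u u = 0 →
      ∃ γ : F, γ ≠ 0 ∧ γ * τ γ ∈ F₀ ∧ RatV F₀ (γ⁻¹ • G *ᵥ u) := fun u hu hu0 huu =>
    hM.line hD hsm h2 hk hk0 hkτ (mulVec_ne_zero g hu0) ((hiso u u).trans huu)
      (H.has_map hM.le (hM.has hD hu huu hk hkτ) hg)
  have ha0 : a ≠ 0 := fun e => one_ne_zero (α := F) (by rw [← hf.ab, e, un_zero_left H.form])
  obtain ⟨γ, hγ0, hγ, hra⟩ := img a hf.ra ha0 hf.aa
  have key : ∀ u : VV, RatV F₀ u → hh u u = 0 → hh a u ≠ 0 → RatV F₀ (γ⁻¹ • G *ᵥ u) := by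
    intro u hu huu hau
    obtain ⟨δ, hδ0, hδ, hru⟩ := img u hu (fun e => hau (by rw [e, un_zero_right H.form])) huu
    have h1 := hD.hh_mem hra hru
    rw [H.form.smul_left, un_smul_right H.form, hiso, map_inv₀] at h1
    have hp : γ * τ δ ∈ F₀ := by
      have h3 := F₀.mul_mem (hD.hh_mem hf.ra hu) (F₀.inv_mem h1)
      convert h3 using 1
      have := (map_ne_zero τ).2 hδ0
      field_simp
    have hq : γ⁻¹ * δ ∈ F₀ := by
      have h3 := F₀.mul_mem (hD.tau_mem _ hp) (F₀.inv_mem hγ)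
      convert h3 using 1
      have := (map_ne_zero τ).2 hγ0
      rw [map_mul, H.form.involutive]
      field_simp
    have := hru.smul hq
    rwa [smul_smul, mul_assoc, mul_inv_cancel₀ hδ0, mul_one] at this
  have hrb := key b hf.rb hf.bb (by rw [hf.ab]; exact one_ne_zero)
  have hrz := key _ hr hzz (by
    simp only [un_add_right H.form, un_smul_right H.form, hf.aa, hf.ab, hf.ac hD, zero_add, add_zero, mul_one]
    exact (map_ne_zero _).2 ht0)
  refine ⟨γ⁻¹, inv_ne_zero hγ0, hf.ratM hD ?_ ?_ ?_⟩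
  · rwa [Matrix.smul_mulVec]
  · rwa [Matrix.smul_mulVec]
  · rw [Matrix.smul_mulVec]
    have := (hrz.sub hra).sub (hrb.smul ht)
    convert this using 1
    rw [Matrix.mulVec_add, Matrix.mulVec_add, Matrix.mulVec_smul]
    module

end CfsgLib.Dim3Max.USub
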