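import Cfsg.Agent.Lib.Dim3Max.USubfield.Core
import Cfsg.Agent.Lib.Dim3Max.Solv.RankOne

/-!
The subfield row over the field with four elements: a subgroup of rank one is rational.

An involution is central modulo the odd core.  Its centralizer is rational, and an element of the odd core
commutes up to a cube root of unity with the rational diagonal and cyclic monomial elements.
-/

set_option autoImplicit false
set_option linter.unusedSectionVars false
set_option linter.unusedSimpArgs false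
set_option linter.style.haveILetI false

namespace CfsgLib.Dim3Max.USub

open scoped Matrix MatrixGroups
open CfsgLib.Maximal

universe u

variable {F : Type u} [Field F] [Fintype F] {q r : ℕ} {τ : F ≃+* F} {F₀ : Subfield F}

local notation "hh" => hf3 F q
local notation "VV" => (Fin 3 → F)
local notation "M3" => Matrix (Fin 3) (Fin 3) F

/-- Triangular with respect to the flag of `a`, fixing `a`. -/
def Tri (τ : F ≃+* F) (a b c : Fin 3 → F) (G : Matrix (Fin 3) (Fin 3) F) (f σ ρ : F) : Prop :=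
  G *ᵥ a = a ∧ G *ᵥ c = f • c + (f * τ σ) • a ∧ G *ᵥ b = b + σ • c + ρ • a

/-- The standing hypotheses of the rank one case. -/
structure Two (q r : ℕ) (τ : F ≃+* F) (F₀ : Subfield F) (M : Subgroup (GL (Fin 3) F)) (a b c : Fin 3 → F) : Prop where
  data : Data q r τ F₀
  ov : Over q F₀ M
  small : Small q F₀ M
  card : Nat.card ↥(F₀ ⊓ fixedτ τ) = 2
  rank : RankOne M
  frame : Frame q F₀ a b c

theorem pow_eq_one_of_odd {G : Type*} [Group G] [Finite G] {O : Subgroup G} (hO : Odd (Nat.card O)) {w : G}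
    (hw : w ∈ O) (h : w ^ 4 = 1) : w = 1 := by
  have h1 : orderOf w ∣ Nat.card O := by
    rw [← Subgroup.orderOf_mk w hw]; exact orderOf_dvd_natCard _
  have h2 : orderOf w ∣ 2 ^ 2 := orderOf_dvd_of_pow_eq_one h
  have hco : Nat.Coprime (orderOf w) (2 ^ 2) :=
    Nat.Coprime.pow_right _ (Nat.coprime_two_right.2 (hO.of_dvd_nat h1))
  exact orderOf_eq_one_iff.1 (Nat.eq_one_of_dvd_coprimes hco dvd_rfl h2)

variable {M : Subgroup (GL (Fin 3) F)} {a b c : Fin 3 → F} (T : Two q r τ F₀ M a b c)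
include T

theorem Two.two : (2 : F) = 0 := T.data.char_two T.card

theorem Two.neg (x : F) : -x = x := by linear_combination -x * T.two

theorem Two.plus {x : F} (hx : x ∈ F₀) (hxτ : τ x = x) : x = 0 ∨ x = 1 := T.data.plus_eq_two T.card hx hxτ

theorem Two.inv2 (x : F) : τ (τ x) = x := T.data.setup.form.involutive x

theorem Two.omega : ∃ ω ∈ F₀, τ ω = ω + 1 ∧ ω * ω = ω + 1 := by
  obtain ⟨ω, hω, hω'⟩ := T.data.moved
  have hω0 : ω ≠ 0 := fun e => hω' (by rw [e, map_zero])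
  have hs : ω + τ ω = 1 := (T.plus (F₀.add_mem hω (T.data.tau_mem _ hω)) (by
    rw [map_add, T.inv2, add_comm])).resolve_left fun e => hω' (by linear_combination e - ω * T.two)
  have hp : ω * τ ω = 1 := (T.plus (F₀.mul_mem hω (T.data.tau_mem _ hω)) (by
    rw [map_mul, T.inv2, mul_comm])).resolve_left (mul_ne_zero hω0 ((map_ne_zero _).2 hω0))
  have hτ : τ ω = ω + 1 := by linear_combination hs - ω * T.two
  refine ⟨ω, hω, hτ, ?_⟩
  rw [hτ] at hp
  linear_combination hp - ω * T.two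

theorem Two.cube {x : F} (hx : x ∈ F₀) (h : x * τ x = 1) : x ^ 3 = 1 := by
  rcases T.plus (F₀.add_mem hx (T.data.tau_mem _ hx)) (by rw [map_add, T.inv2, add_comm]) with hs | hs
  · have e : τ x = x := by linear_combination hs - x * T.two
    rw [e] at h
    have h1 : (x - 1) * (x - 1) = 0 := by linear_combination h + (1 - x) * T.two
    rw [sub_eq_zero.1 (mul_self_eq_zero.1 h1), one_pow]
  · have e : τ x = x + 1 := by linear_combination hs - x * T.two
    rw [e] at h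
    linear_combination (x - 1) * h + (x - 1) * T.two

theorem Two.mem_of_cube {x : F} (h : x ^ 3 = 1) : x ∈ F₀ := by
  obtain ⟨ω, hω, -, hω2⟩ := T.omega
  have h2 := T.two
  have h1 : (x - 1) * ((x - ω) * (x - (ω + 1))) = 0 := by
    linear_combination h + (x - 1) * hω2 + (x - 1) * (ω - (ω + 1) * x) * T.two
  rcases mul_eq_zero.1 h1 with h3 | h3
  · rw [sub_eq_zero.1 h3]; exact F₀.one_mem
  rcases mul_eq_zero.1 h3 with h4 | h4
  · rw [sub_eq_zero.1 h4]; exact hω
  · rw [sub_eq_zero.1 h4]; exact F₀.add_mem hω F₀.one_mem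

theorem Two.cc : hh c c = 1 :=
  (T.plus (T.data.hh_mem T.frame.rc T.frame.rc) (T.data.setup.form.herm c c).symm).resolve_left (T.frame.cc T.data)

theorem Two.hval (x : VV) : x = hh x b • a + hh x a • b + hh x c • c := by
  have h := T.frame.expand T.data x
  rwa [T.cc, div_one] at h

theorem Two.tri_mul {G H : M3} {f σ ρ f' σ' ρ' : F} (hf : f * τ f = 1) (hG : Tri τ a b c G f σ ρ)
    (hH : Tri τ a b c H f' σ' ρ') :
    Tri τ a b c (G * H) (f * f') (σ + σ' * f) (ρ + ρ' + σ' * f * τ σ) := by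
  obtain ⟨g1, g2, g3⟩ := hG
  obtain ⟨h1, h2, h3⟩ := hH
  refine ⟨?_, ?_, ?_⟩
  · rw [← Matrix.mulVec_mulVec, h1, g1]
  · rw [← Matrix.mulVec_mulVec, h2, Matrix.mulVec_add, Matrix.mulVec_smul, Matrix.mulVec_smul, g1, g2, smul_add,
      smul_smul, smul_smul, add_assoc, ← add_smul, mul_comm f' f]
    congr 2
    rw [map_add, map_mul]
    linear_combination -(f' * τ σ') * hf
  · rw [← Matrix.mulVec_mulVec, h3, Matrix.mulVec_add, Matrix.mulVec_add, Matrix.mulVec_smul, Matrix.mulVec_smul,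
      g1, g2, g3]
    module

theorem Two.tri_unique {G : M3} {f σ ρ f' σ' ρ' : F} (h : Tri τ a b c G f σ ρ) (h' : Tri τ a b c G f' σ' ρ') :
    f = f' ∧ σ = σ' ∧ ρ = ρ' := by
  have H := T.data.setup.form
  have hf := T.frame
  have e1 := congrArg (hh · c) (h.2.1.symm.trans h'.2.1)
  have e2 := congrArg (hh · c) (h.2.2.symm.trans h'.2.2)
  have e3 := congrArg (hh · b) (h.2.2.symm.trans h'.2.2)
  simp only [H.add_left, H.smul_left, hf.ac T.data, hf.bc T.data, hf.ab, hf.bb, hf.cb, T.cc, mul_zero, add_zero,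
    zero_add, mul_one] at e1 e2 e3
  exact ⟨e1, e2, e3⟩

theorem Two.tri_ext {G G' : M3} {f σ ρ : F} (h : Tri τ a b c G f σ ρ) (h' : Tri τ a b c G' f σ ρ) : G = G' :=
  T.frame.ext T.data (h.1.trans h'.1.symm) (h.2.2.trans h'.2.2.symm) (h.2.1.trans h'.2.1.symm)

theorem Two.tri_one : Tri τ a b c 1 1 0 0 := by simp [Tri]

theorem Two.tri_tv {ρ : F} (h : fvec hh a ⬝ᵥ (ρ • a) = 0) :
    Tri τ a b c (tv (ρ • a) (fvec hh a) h : M3) 1 0 ρ := by
  refine ⟨?_, ?_, ?_⟩ <;>
    simp [tv_mulVec, un_dot T.data.setup.form, T.frame.aa, T.frame.ba, T.frame.ca]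

theorem Two.tri_pow {G : M3} {f ρ : F} (hf : f * τ f = 1) (h : Tri τ a b c G f 0 ρ) (n : ℕ) :
    Tri τ a b c (G ^ n) (f ^ n) 0 (n * ρ) := by
  induction n with
  | zero => simpa using T.tri_one
  | succ n ih =>
    have h1 := T.tri_mul (show f ^ n * τ (f ^ n) = 1 by rw [map_pow, ← mul_pow, hf, one_pow]) ih h
    rw [pow_succ, pow_succ]
    convert h1 using 1
    · simp
    · push_cast; simp; ring

theorem Two.tri_four {G : M3} {σ ρ : F} (h : Tri τ a b c G 1 σ ρ) : G ^ 4 = 1 := by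
  have h2 := T.tri_mul (by simp) h h
  have h4 := T.tri_mul (by simp) h2 h2
  rw [show G ^ 4 = G * G * (G * G) by simp only [pow_succ, pow_zero, one_mul, mul_assoc]]
  refine T.tri_ext h4 ?_
  convert T.tri_one using 1
  · simp
  · linear_combination (2 * σ) * T.two
  · simp only [map_add, map_mul, map_one, mul_one]
    linear_combination (2 * ρ + σ * τ σ + 2 * σ * τ σ) * T.two

/-- Rational unipotent elements. -/
theorem Two.exists_unip {s : F} (hs : s ∈ F₀) :
    ∃ u ∈ M, ∃ C ∈ F₀, Tri τ a b c (u : M3) 1 s C := by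
  have H := T.data.setup.form
  have hf := T.frame
  obtain ⟨θ, hθ, -, hθ1⟩ := T.data.trace_one
  have hw : hh (s • c) a = 0 := by rw [H.smul_left, hf.ca, mul_zero]
  obtain ⟨C, hC⟩ : ∃ C, C = -(θ * (s * τ s)) := ⟨_, rfl⟩
  have hCm : C ∈ F₀ := hC ▸ F₀.neg_mem (F₀.mul_mem hθ (F₀.mul_mem hs (T.data.tau_mem _ hs)))
  have hCC : C + τ C + hh (s • c) (s • c) = 0 := by
    rw [H.smul_left, un_smul_right H, T.cc, hC, map_neg, map_mul, map_mul, T.inv2]
    linear_combination -(s * τ s) * hθ1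
  have htri : Tri τ a b c (unSiegel H hf.aa hw C : M3) 1 s C := by
    refine ⟨?_, ?_, ?_⟩
    · simp [unSiegel_mulVec, hf.aa, un_smul_right H, hf.ac T.data]
    · simp [unSiegel_mulVec, hf.ca, un_smul_right H, T.cc, T.neg]
    · simp [unSiegel_mulVec, hf.ba, un_smul_right H, hf.bc T.data]
      module
  refine ⟨_, T.ov.mem _ (siegel_mem_su H hf.aa hw hCC) ⟨1, one_ne_zero, ?_⟩, C, hCm, htri⟩
  rw [one_smul]
  refine hf.ratM T.data ?_ ?_ ?_
  · rw [htri.1]; exact hf.ra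
  · rw [htri.2.2]; exact fun i => F₀.add_mem (F₀.add_mem (hf.rb i) (hf.rc.smul hs i)) (hf.ra.smul hCm i)
  · rw [htri.2.1]
    exact fun i => F₀.add_mem (hf.rc.smul F₀.one_mem i) (hf.ra.smul (F₀.mul_mem F₀.one_mem (T.data.tau_mem _ hs)) i)

theorem Two.elation_mem {w : GL (Fin 3) F} (hw : w ∈ M) {ρ : F} (h : Tri τ a b c (w : M3) 1 0 ρ) : ρ ∈ F₀ := by
  have ha0 : a ≠ 0 := fun e => one_ne_zero (α := F) (by rw [← T.frame.ab, e, un_zero_left T.data.setup.form])
  refine T.small a T.frame.ra ha0 T.frame.aa ρ ⟨by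
    rw [dotProduct_smul, un_dot T.data.setup.form, T.frame.aa, smul_zero], ?_⟩
  convert hw using 1
  exact Units.ext (T.tri_ext (T.tri_tv _) h)

/-- Unipotent elements are rational. -/
theorem Two.unip_rat {u : GL (Fin 3) F} (hu : u ∈ M) {σ ρ : F} (h : Tri τ a b c (u : M3) 1 σ ρ) :
    σ ∈ F₀ ∧ ρ ∈ F₀ := by
  have sq : ∀ {w : GL (Fin 3) F}, w ∈ M → ∀ {s t : F}, Tri τ a b c (w : M3) 1 s t → s * τ s ∈ F₀ := by
    intro w hw s t hs
    refine T.elation_mem (mul_mem hw hw) ?_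
    rw [Units.val_mul]
    convert T.tri_mul (by simp) hs hs using 1
    · simp
    · linear_combination -s * T.two
    · simp only [mul_one]; linear_combination -t * T.two
  have hN := sq hu h
  obtain ⟨v, hv, C, hC, hvt⟩ := T.exists_unip F₀.one_mem
  have hN' : (σ + 1) * τ (σ + 1) ∈ F₀ := by
    refine sq (mul_mem hu hv) (t := ρ + C + 1 * 1 * τ σ) ?_
    rw [Units.val_mul]
    simpa using T.tri_mul (by simp) h hvt
  have hσ : σ ∈ F₀ := by
    refine T.data.tr_norm ?_ hN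
    have h1 := F₀.sub_mem (F₀.sub_mem hN' hN) F₀.one_mem
    convert h1 using 1
    rw [map_add, map_one]
    ring
  refine ⟨hσ, ?_⟩
  obtain ⟨v', hv', C', hC', hvt'⟩ := T.exists_unip hσ
  have hρ' : ρ + C' + σ * τ σ ∈ F₀ := by
    refine T.elation_mem (mul_mem hu hv') ?_
    rw [Units.val_mul]
    convert T.tri_mul (by simp) h hvt' using 1
    · simp
    · linear_combination -σ * T.two
    · simp
  have h1 := F₀.sub_mem (F₀.sub_mem hρ' hC') hN
  convert h1 using 1
  ring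

/-- The shape of an element centralizing the elation at `a`. -/
theorem Two.cent_param {g : GL (Fin 3) F} (hg : g ∈ M) {h0 : fvec hh a ⬝ᵥ ((1 : F) • a) = 0}
    (hcomm : g * tv ((1 : F) • a) (fvec hh a) h0 = tv ((1 : F) • a) (fvec hh a) h0 * g) :
    ∃ d f σ ρ : F, d * τ d = 1 ∧ f * τ f = 1 ∧ Tri τ a b c (d⁻¹ • (g : M3)) f σ ρ := by
  have H := T.data.setup.form
  have hf := T.frame
  have hiso : ∀ x y, hh ((g : M3) *ᵥ x) ((g : M3) *ᵥ y) = hh x y := (mem_GU_iff g).1 (T.ov.le hg).1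
  have e := congrArg (fun x : GL (Fin 3) F => (x : M3) *ᵥ b) hcomm
  simp only [Units.val_mul, ← Matrix.mulVec_mulVec, tv_mulVec, un_dot H, hf.ba, one_smul, Matrix.mulVec_add,
    add_right_inj] at e
  obtain ⟨d, hd⟩ : ∃ d, d = hh ((g : M3) *ᵥ b) a := ⟨_, rfl⟩
  rw [← hd] at e
  have hdd : d * τ d = 1 := by
    have h1 := hiso b a
    rwa [e, un_smul_right H, ← hd, hf.ba, mul_comm] at h1
  have hd0 : d ≠ 0 := fun h => by rw [h, zero_mul] at hdd; exact zero_ne_one hdd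
  set G : M3 := d⁻¹ • (g : M3) with hG
  have hGa : G *ᵥ a = a := by rw [hG, Matrix.smul_mulVec, e, inv_smul_smul₀ hd0]
  have hisoG : ∀ x y, hh (G *ᵥ x) (G *ᵥ y) = hh x y := fun x y => by
    rw [hG, Matrix.smul_mulVec, Matrix.smul_mulVec, H.smul_left, un_smul_right H, hiso, map_inv₀, ← mul_assoc,
      ← mul_inv, hdd, inv_one, one_mul]
  have hca : hh (G *ᵥ c) a = 0 := by
    have := hisoG c a
    rwa [hGa, hf.ca] at this
  have hba : hh (G *ᵥ b) a = 1 := by
    have := hisoG b a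
    rwa [hGa, hf.ba] at this
  have ec := T.hval (G *ᵥ c)
  rw [hca, zero_smul, add_zero] at ec
  have eb := T.hval (G *ᵥ b)
  rw [hba, one_smul] at eb
  obtain ⟨f, hfdef⟩ : ∃ f, f = hh (G *ᵥ c) c := ⟨_, rfl⟩
  obtain ⟨σ, hσ⟩ : ∃ σ, σ = hh (G *ᵥ b) c := ⟨_, rfl⟩
  obtain ⟨ρ, hρ⟩ : ∃ ρ, ρ = hh (G *ᵥ b) b := ⟨_, rfl⟩
  obtain ⟨p, hp⟩ : ∃ p, p = hh (G *ᵥ c) b := ⟨_, rfl⟩
  rw [← hfdef, ← hp] at ec
  rw [← hσ, ← hρ] at eb
  have hff : f * τ f = 1 := by
    have h1 := hisoG c c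
    rw [ec, T.cc] at h1
    simp only [H.add_left, un_add_right H, H.smul_left, un_smul_right H, hf.aa, hf.ac T.data, hf.ca, T.cc, mul_zero,
      add_zero, zero_add, mul_one] at h1
    exact h1
  have hpe : p = f * τ σ := by
    have h1 := hisoG c b
    rw [ec, eb, hf.cb] at h1
    simp only [H.add_left, un_add_right H, H.smul_left, un_smul_right H, hf.aa, hf.ab, hf.ac T.data, hf.ca, hf.cb,
      T.cc, mul_zero, add_zero, zero_add, mul_one] at h1
    linear_combination h1 - (f * τ σ) * T.two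
  refine ⟨d, f, σ, ρ, hdd, hff, hGa, ?_, ?_⟩
  · rw [ec, hpe, add_comm]
  · rw [eb]; abel

/-- A conjugate of a rational unipotent element by the centralizer. -/
theorem Two.conj_param {g : GL (Fin 3) F} (hg : g ∈ M) {d f σ ρ : F} (hd : d * τ d = 1) (hf : f * τ f = 1)
    (hG : Tri τ a b c (d⁻¹ • (g : M3)) f σ ρ) {u : GL (Fin 3) F} (hu : u ∈ M) {s C : F}
    (hU : Tri τ a b c (u : M3) 1 s C) :
    Tri τ a b c ((g * u * g⁻¹ : GL (Fin 3) F) : M3) 1 (s * f) (C + s * f * τ σ - σ * τ (s * f)) := by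
  have H := T.data.setup.form
  have ha := T.frame.aa
  have hd0 : d ≠ 0 := fun h => by rw [h, zero_mul] at hd; exact zero_ne_one hd
  have h0 : fvec hh a ⬝ᵥ ((1 : F) • a) = 0 := by rw [one_smul, un_dot H, ha]
  set k := g * u * g⁻¹ with hk
  have hkm : k ∈ M := mul_mem (mul_mem hg hu) (inv_mem hg)
  have hke : (k : M3) * (d⁻¹ • (g : M3)) = (d⁻¹ • (g : M3)) * (u : M3) := by
    rw [Matrix.mul_smul, Matrix.smul_mul, ← Units.val_mul, ← Units.val_mul, hk, inv_mul_cancel_right]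
  have hka : (k : M3) *ᵥ a = a := by
    have := congrArg (· *ᵥ a) hke
    simp only [← Matrix.mulVec_mulVec, hG.1, hU.1] at this
    exact this
  -- commuting with the elation at `a`
  have hisoK : ∀ y, hh ((k : M3) *ᵥ y) a = hh y a := fun y => by
    have h1 : hh ((k : M3) *ᵥ y) ((k : M3) *ᵥ a) = hh y a := (mem_GU_iff k).1 (T.ov.le hkm).1 y a
    rwa [hka] at h1
  have hcomm : k * tv ((1 : F) • a) (fvec hh a) h0 = tv ((1 : F) • a) (fvec hh a) h0 * k := by
    refine Units.ext (T.frame.ext T.data ?_ ?_ ?_) <;>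
      simp only [Units.val_mul, ← Matrix.mulVec_mulVec, tv_mulVec, un_dot H, one_smul, Matrix.mulVec_add,
        Matrix.mulVec_smul, hka]
    all_goals
      congr 1
      rw [hisoK]
  obtain ⟨d', f', σ', ρ', hd', hf', hK⟩ := T.cent_param hkm hcomm
  have hd1 : d' = 1 := by
    have h1 := hK.1
    rw [Matrix.smul_mulVec, hka] at h1
    have ha0 : a ≠ 0 := fun e => one_ne_zero (α := F) (by rw [← T.frame.ab, e, un_zero_left H])
    obtain ⟨i, hi⟩ := Function.ne_iff.1 ha0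
    have h2 := congrFun h1 i
    rw [Pi.smul_apply, smul_eq_mul] at h2
    exact inv_eq_one.1 (mul_right_cancel₀ (show a i ≠ 0 from hi) (by rw [one_mul]; exact h2))
  rw [hd1, inv_one, one_smul] at hK
  have hL := T.tri_mul hf' hK hG
  have hR := T.tri_mul hf hG hU
  rw [hke] at hL
  obtain ⟨e1, e2, e3⟩ := T.tri_unique hL hR
  have hf0 : f ≠ 0 := fun h => by rw [h, zero_mul] at hf; exact zero_ne_one hf
  have hf1 : f' = 1 := mul_right_cancel₀ hf0 (by rw [e1, mul_one, one_mul])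
  subst hf1
  have e2' : σ' = s * f := by linear_combination e2
  subst e2'
  convert hK using 1
  linear_combination -e3

/-- The centralizer of the elation at `a` is rational. -/
theorem Two.cent_rat {g : GL (Fin 3) F} (hg : g ∈ M) {h0 : fvec hh a ⬝ᵥ ((1 : F) • a) = 0}
    (hcomm : g * tv ((1 : F) • a) (fvec hh a) h0 = tv ((1 : F) • a) (fvec hh a) h0 * g) :
    RatUpToScalar F₀ g := by
  obtain ⟨ω, hω, hτω, hω2⟩ := T.omega
  obtain ⟨d, f, σ, ρ, hd, hff, hG⟩ := T.cent_param hg hcomm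
  have hd0 : d ≠ 0 := fun h => by rw [h, zero_mul] at hd; exact zero_ne_one hd
  have hf0 : f ≠ 0 := fun h => by rw [h, zero_mul] at hff; exact zero_ne_one hff
  have key : ∀ s ∈ F₀, s * f ∈ F₀ ∧ s * f * τ σ - σ * τ (s * f) ∈ F₀ := by
    intro s hs
    obtain ⟨u, hu, C, hC, hU⟩ := T.exists_unip hs
    obtain ⟨h1, h2⟩ := T.unip_rat (mul_mem (mul_mem hg hu) (inv_mem hg)) (T.conj_param hg hd hff hG hu hU)
    refine ⟨h1, ?_⟩
    have h3 := F₀.sub_mem h2 hC
    convert h3 using 1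
    ring
  obtain ⟨h1, h2⟩ := key 1 F₀.one_mem
  have hfm : f ∈ F₀ := by simpa using h1
  obtain ⟨-, h3⟩ := key ω hω
  have hz : σ * τ f ∈ F₀ := by
    have h4 := F₀.sub_mem h3 (F₀.mul_mem hω h2)
    convert h4 using 1
    simp only [one_mul, map_mul, hτω]
    linear_combination (σ * τ f) * T.two
  have hσ : σ ∈ F₀ := by
    have h4 := F₀.mul_mem hz hfm
    convert h4 using 1
    linear_combination -σ * hff
  -- remove the middle parameter
  obtain ⟨v, hv, C, hC, hV⟩ := T.exists_unip (F₀.div_mem hσ hfm)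
  obtain ⟨ρ₁, hρ₁⟩ : ∃ ρ₁, ρ₁ = ρ + C + σ / f * f * τ σ := ⟨_, rfl⟩
  have hV' : Tri τ a b c (d⁻¹ • ((g * v : GL (Fin 3) F) : M3)) f 0 ρ₁ := by
    rw [Units.val_mul, ← Matrix.smul_mul]
    convert T.tri_mul hff hG hV using 1
    · rw [mul_one]
    · rw [div_mul_cancel₀ _ hf0]; linear_combination -σ * T.two
  have hq : (q : F) = 0 := by
    have h3 := FiniteField.cast_card_eq_zero F
    rw [T.data.setup.card, Nat.cast_pow] at h3
    exact pow_eq_zero_iff two_ne_zero |>.1 h3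
  obtain ⟨n, hn⟩ : ∃ n, n = (q + 1) * 3 := ⟨_, rfl⟩
  have hdn : d ^ n = 1 := by
    rw [hn, pow_mul, show d ^ (q + 1) = 1 by rw [pow_succ, ← T.data.setup.pow, mul_comm, hd], one_pow]
  have hρ1m : ρ₁ ∈ F₀ := by
    refine T.elation_mem (pow_mem (mul_mem hg hv) n) ?_
    have h4 := T.tri_pow hff hV' n
    rw [smul_pow, inv_pow, hdn, inv_one, one_smul, ← Units.val_pow_eq_pow_val] at h4
    convert h4 using 1
    · rw [hn, mul_comm (q + 1), pow_mul, T.cube hfm hff, one_pow]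
    · rw [hn]; push_cast; rw [hq]; linear_combination -ρ₁ * T.two
  have hρ : ρ ∈ F₀ := by
    have h5 := F₀.sub_mem (F₀.sub_mem hρ1m hC) (F₀.mul_mem (F₀.mul_mem (F₀.div_mem hσ hfm) hfm) (T.data.tau_mem _ hσ))
    convert h5 using 1
    rw [hρ₁]; ring
  refine ⟨d⁻¹, inv_ne_zero hd0, T.frame.ratM T.data ?_ ?_ ?_⟩
  · rw [hG.1]; exact T.frame.ra
  · rw [hG.2.2]
    exact fun i => F₀.add_mem (F₀.add_mem (T.frame.rb i) (T.frame.rc.smul hσ i)) (T.frame.ra.smul hρ i)
  · rw [hG.2.1]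
    exact fun i => F₀.add_mem (T.frame.rc.smul hfm i)
      (T.frame.ra.smul (F₀.mul_mem hfm (T.data.tau_mem _ hσ)) i)

/-- Core elements centralizing the elation at `a` are scalar. -/
theorem Two.core_scalar (g : M) (hg : g ∈ Cfsg.oddCore M) {h0 : fvec hh a ⬝ᵥ ((1 : F) • a) = 0}
    (hcomm : g.1 * tv ((1 : F) • a) (fvec hh a) h0 = tv ((1 : F) • a) (fvec hh a) h0 * g.1) :
    ∃ t : F, (g.1 : M3) = t • 1 := by
  haveI : (Cfsg.oddCore M).Normal := Cfsg.pPrimeCore_normal 2 M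
  have hodd := CfsgLib.Base.odd_card_oddCore M
  obtain ⟨d, f, σ, ρ, hd, hff, hG⟩ := T.cent_param g.2 hcomm
  obtain ⟨u, hu, C, -, hU⟩ := T.exists_unip F₀.one_mem
  have hk := T.conj_param g.2 hd hff hG hu hU
  have hu4 : (u : GL (Fin 3) F) ^ 4 = 1 := Units.ext (by rw [Units.val_pow_eq_pow_val, T.tri_four hU, Units.val_one])
  let uM : M := ⟨u, hu⟩
  have hw : g * uM * g⁻¹ * uM⁻¹ ∈ Cfsg.oddCore M := by
    rw [mul_assoc g, mul_assoc g]
    exact mul_mem hg (Subgroup.Normal.conj_mem inferInstance _ (inv_mem hg) uM)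
  have hw4 : (g * uM * g⁻¹ * uM⁻¹) ^ 4 = 1 := by
    refine Subtype.ext (Units.ext ?_)
    show (((g.1 * u * g.1⁻¹ * u⁻¹) ^ 4 : GL (Fin 3) F) : M3) = 1
    rw [show u⁻¹ = u * u * u from inv_eq_of_mul_eq_one_right (by
      rw [← hu4]; simp only [pow_succ, pow_zero, one_mul, mul_assoc]), Units.val_pow_eq_pow_val, Units.val_mul,
      Units.val_mul, Units.val_mul]
    have h2 := T.tri_mul (by simp) (T.tri_mul (by simp) hU hU) hU
    have h3 := T.tri_mul (by simp) hk h2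
    simp only [mul_one, one_mul] at h3
    exact T.tri_four h3
  have hku : g.1 * u * g.1⁻¹ = u := by
    have := congrArg Subtype.val (mul_inv_eq_one.1 (pow_eq_one_of_odd hodd hw hw4))
    exact this
  rw [hku] at hk
  obtain rfl : f = 1 := by simpa using (T.tri_unique hk hU).2.1
  have hg4 : (g.1 : M3) ^ 4 = d ^ 4 • 1 := by
    have h4 := T.tri_four hG
    have hd0 : d ≠ 0 := fun h => by rw [h, zero_mul] at hd; exact zero_ne_one hd
    rw [smul_pow, inv_pow] at h4
    exact (inv_smul_eq_iff₀ (pow_ne_zero 4 hd0)).1 h4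
  obtain ⟨m, hm⟩ : Odd (orderOf g) := hodd.of_dvd_nat (by
    rw [← Subgroup.orderOf_mk g hg]; exact orderOf_dvd_natCard _)
  refine ⟨(d ^ 4) ^ ((m + 1) * (m + 1)), ?_⟩
  have e : g ^ (4 * ((m + 1) * (m + 1))) = g := by
    rw [show 4 * ((m + 1) * (m + 1)) = orderOf g * (orderOf g + 2) + 1 by rw [hm]; ring, pow_succ, pow_mul,
      pow_orderOf_eq_one, one_pow, one_mul]
  conv_lhs => rw [← e]
  rw [SubmonoidClass.coe_pow, Units.val_pow_eq_pow_val, pow_mul, hg4, smul_pow, one_pow]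

end CfsgLib.Dim3Max.USub
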