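import Cfsg.Agent.Lib.Dim3Max.USubfield.Two

/-!
A subgroup of rank one over the field with four elements is rational: the odd core.
-/

set_option autoImplicit false
set_option linter.unusedSectionVars false
set_option linter.unusedSimpArgs false
set_option linter.style.haveILetI false

namespace CfsgLib.Dim3Max.USub

open scoped Matrix MatrixGroups
open CfsgLib.Maximal

universe u

variable {F : Type u} [Field F] [Fintype F] {q r : ℕ} {τ : F ≃+* F} {F₀ : Subfield F}

local notation "hh" => hf3 F q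
local notation "VV" => (Fin 3 → F)
local notation "M3" => Matrix (Fin 3) (Fin 3) F

/-- Matrices commuting up to scalars with the cyclic and the diagonal matrix are rational up to a scalar. -/
theorem ratUpToScalar_of_rel {ω lam lam' : F} (hω2 : ω * ω = ω + 1) (h2 : (2 : F) = 0) (hlam : lam ∈ F₀)
    (o : GL (Fin 3) F) (hP : (o : M3) * !![0, 0, 1; 1, 0, 0; 0, 1, 0] = lam • (!![0, 0, 1; 1, 0, 0; 0, 1, 0] * (o : M3)))
    (hQ : (o : M3) * !![1, 0, 0; 0, ω, 0; 0, 0, ω + 1] = lam' • (!![1, 0, 0; 0, ω, 0; 0, 0, ω + 1] * (o : M3))) :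
    RatUpToScalar F₀ o := by
  set G : M3 := (o : M3) with hG
  let d : Fin 3 → F := ![1, ω, ω + 1]
  have hd : (!![1, 0, 0; 0, ω, 0; 0, 0, ω + 1] : M3) = Matrix.diagonal d := by
    refine Matrix.ext fun i j => ?_
    fin_cases i <;> fin_cases j <;> simp [d]
  rw [hd] at hQ
  have hinj : Function.Injective d := by
    have h0 : ω ≠ 0 := fun e => by rw [e] at hω2; simp at hω2
    have h1 : ω ≠ 1 := fun e => by
      rw [e] at hω2
      exact one_ne_zero (α := F) (by linear_combination hω2 + h2)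
    have h3 : ω + 1 ≠ 0 := fun e => h1 (by linear_combination e - h2)
    have h4 : ω + 1 ≠ 1 := fun e => h0 (by linear_combination e)
    have h5 : ω + 1 ≠ ω := fun e => one_ne_zero (α := F) (by linear_combination e)
    intro i j h
    fin_cases i <;> fin_cases j <;>
      simp only [d, Matrix.cons_val_zero, Matrix.cons_val_one, Matrix.cons_val, Fin.zero_eta, Fin.mk_one,
        Fin.reduceFinMk] at h ⊢ <;>
      first
        | exact absurd h h1
        | exact absurd h.symm h1
        | exact absurd h h4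
        | exact absurd h.symm h4
        | exact absurd h h5
        | exact absurd h.symm h5
  have hrow : ∀ i j j' : Fin 3, G i j ≠ 0 → G i j' ≠ 0 → j = j' := by
    intro i j j' hj hj'
    have e1 : ∀ k, G i k ≠ 0 → d k = lam' * d i := fun k hk => by
      have h3 := congrFun (congrFun hQ i) k
      rw [Matrix.mul_diagonal, Matrix.smul_apply, Matrix.diagonal_mul, smul_eq_mul] at h3
      exact mul_left_cancel₀ hk (by linear_combination h3)
    exact hinj ((e1 j hj).trans (e1 j' hj').symm)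
  have hshift : ∀ i j : Fin 3, G (i + 1) (j + 1) = lam * G i j := by
    intro i j
    have h3 := congrFun (congrFun hP (i + 1)) j
    fin_cases i <;> fin_cases j <;>
      simp [Matrix.mul_apply, Matrix.vecMul, dotProduct, Fin.sum_univ_three, Matrix.vecHead, Matrix.vecTail] at h3 ⊢ <;>
      exact h3
  obtain ⟨m, hm⟩ : ∃ m, G 0 m ≠ 0 := by
    by_contra hcon
    push Not at hcon
    have h3 : (G * ((o⁻¹ : GL (Fin 3) F) : M3)) 0 0 = 1 := by
      rw [hG, ← Units.val_mul, mul_inv_cancel]; simp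
    rw [Matrix.mul_apply] at h3
    simp [hcon] at h3
  refine ⟨(G 0 m)⁻¹, inv_ne_zero hm, ?_⟩
  have r0 : ∀ j, (G 0 m)⁻¹ * G 0 j ∈ F₀ := by
    intro j
    rcases eq_or_ne (G 0 j) 0 with h0 | h0
    · rw [h0, mul_zero]; exact F₀.zero_mem
    · rw [hrow 0 j m h0 hm, inv_mul_cancel₀ hm]; exact F₀.one_mem
  have hstep : ∀ i, (∀ j, (G 0 m)⁻¹ * G i j ∈ F₀) → ∀ j, (G 0 m)⁻¹ * G (i + 1) j ∈ F₀ := by
    intro i hi j
    have h3 := hshift i (j - 1)
    rw [sub_add_cancel] at h3
    rw [h3, mul_left_comm]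
    exact F₀.mul_mem hlam (hi _)
  have r1 := hstep 0 r0
  have r2 := hstep _ r1
  intro i j
  rw [Matrix.smul_apply, smul_eq_mul]
  fin_cases i
  · exact r0 j
  · exact r1 j
  · exact r2 j

variable {M : Subgroup (GL (Fin 3) F)} {a b c : Fin 3 → F} (T : Two q r τ F₀ M a b c)
include T

/-- Everything is rational. -/
theorem Two.rat {g : GL (Fin 3) F} (hg : g ∈ M) : RatUpToScalar F₀ g := by
  classical
  have H := T.data.setup.form
  have h2 := T.two
  have hD := T.data
  obtain ⟨ω, hω, hτω, hω2⟩ := T.omega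
  haveI : (Cfsg.oddCore M).Normal := Cfsg.pPrimeCore_normal 2 M
  have hodd := CfsgLib.Base.odd_card_oddCore M
  have hone : τ (1 : F) = -1 := by rw [map_one, T.neg]
  -- rational involutions
  have inv_of : ∀ u : VV, RatV F₀ u → u ≠ 0 → hh u u = 0 → ∃ x : M, orderOf x = 2 ∧
      ∃ h : fvec hh u ⬝ᵥ ((1 : F) • u) = 0, (x : GL (Fin 3) F) = tv ((1 : F) • u) (fvec hh u) h := by
    intro u hu hu0 huu
    obtain ⟨h, hm⟩ := T.ov.has hD hu huu F₀.one_mem hone
    refine ⟨⟨_, hm⟩, ?_, h, rfl⟩
    rw [← Subgroup.orderOf_coe]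
    refine orderOf_eq_prime (p := 2) ?_ fun e => ?_
    · refine Units.ext ?_
      rw [pow_two, Units.val_mul, tv_val, add_mul, one_mul, mul_add, mul_one, Matrix.vecMulVec_mul_vecMulVec, h,
        zero_smul, Matrix.vecMulVec_zero, add_zero, Units.val_one]
      refine Matrix.ext fun i j => ?_
      simp only [Matrix.add_apply]
      linear_combination (Matrix.vecMulVec ((1 : F) • u) (fvec hh u) i j) * h2
    · have e' := congrArg (fun g : GL (Fin 3) F => (g : M3)) e
      rw [tv_val, Units.val_one, add_eq_left, Matrix.vecMulVec_eq_zero] at e'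
      exact e'.elim (by simpa using hu0) fun e2 => hu0 (un_fvec_injective H (e2.trans (un_fvec_zero H).symm))
  have ha0 : a ≠ 0 := fun e => one_ne_zero (α := F) (by rw [← T.frame.ab, e, un_zero_left H])
  obtain ⟨z, hz, hz0, hzv⟩ := inv_of a T.frame.ra ha0 T.frame.aa
  have hzz : z * z = 1 := by rw [← pow_two, ← hz, pow_orderOf_eq_one]
  have hzi : z⁻¹ = z := inv_eq_of_mul_eq_one_right hzz
  have hiso : Cfsg.IsIsolatedInvolution z := by
    refine ⟨hz, fun g hc => Subtype.ext ?_⟩
    refine (T.rank _ z.2 _ (g * z * g⁻¹ : M).2 ?_ ?_ (congrArg Subtype.val hc.eq)).symm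
    · rw [Subgroup.orderOf_coe, hz]
    · rw [Subgroup.orderOf_coe]
      exact ((MulAut.conj g).orderOf_eq z).trans hz
  -- core elements fixed by `z` are scalar
  have scal : ∀ o ∈ Cfsg.oddCore M, z * o * z = o → ∃ t : F, ((o : GL (Fin 3) F) : M3) = t • 1 := by
    intro o ho hoz
    refine T.core_scalar o ho (h0 := hz0) ?_
    rw [← hzv, ← Subgroup.coe_mul, ← Subgroup.coe_mul]
    refine congrArg Subtype.val ?_
    calc o * z = z * o * z * z := by rw [hoz]
      _ = z * o := by rw [mul_assoc, hzz, mul_one]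
  -- core elements commute up to scalars
  have dec : ∀ o ∈ Cfsg.oddCore M, ∃ t y : M, t ∈ Cfsg.oddCore M ∧ y ∈ Cfsg.oddCore M ∧ z * t * z = t ∧
      z * y * z = y⁻¹ ∧ o = t * y := by
    intro o ho
    obtain ⟨y, hy⟩ : ∃ y, y = o⁻¹ * (z * o * z) := ⟨_, rfl⟩
    have hym : y ∈ Cfsg.oddCore M := hy ▸ mul_mem (inv_mem ho) (by
      have := Subgroup.Normal.conj_mem inferInstance o ho z
      rwa [hzi] at this)
    obtain ⟨m, hm⟩ : Odd (orderOf y) := hodd.of_dvd_nat (by
      rw [← Subgroup.orderOf_mk y hym]; exact orderOf_dvd_natCard _)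
    have hzy : z * y * z = y⁻¹ := by
      rw [hy, mul_inv_rev, inv_inv]
      simp only [mul_inv_rev, hzi, mul_assoc]
      rw [hzz]; simp
    have hy1 : y ^ (m + 1) * y ^ (m + 1) = y := by
      rw [← pow_add, show m + 1 + (m + 1) = orderOf y + 1 by omega, pow_succ, pow_orderOf_eq_one, one_mul]
    have hzy1 : z * y ^ (m + 1) * z = (y ^ (m + 1))⁻¹ := by
      have := conj_pow (a := z) (b := y) (i := m + 1)
      rw [hzi, hzy, inv_pow] at this
      exact this.symm
    refine ⟨o * y ^ (m + 1), (y ^ (m + 1))⁻¹, mul_mem ho (pow_mem hym _), inv_mem (pow_mem hym _), ?_, ?_, by group⟩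
    · calc z * (o * y ^ (m + 1)) * z = z * o * (z * z) * y ^ (m + 1) * z := by rw [hzz, mul_one]; group
        _ = o * (o⁻¹ * (z * o * z)) * (z * y ^ (m + 1) * z) := by group
        _ = o * (y ^ (m + 1) * y ^ (m + 1)) * (y ^ (m + 1))⁻¹ := by rw [← hy, hzy1, hy1]
        _ = o * y ^ (m + 1) := by group
    · rw [inv_inv]
      have := congrArg (·⁻¹) hzy1
      simpa [mul_inv_rev, hzi, mul_assoc] using this
  have hcen : ∀ t ∈ Cfsg.oddCore M, z * t * z = t → ∀ x : M, t * x = x * t := by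
    intro t ht htz x
    obtain ⟨s, hs⟩ := scal t ht htz
    refine Subtype.ext (Units.ext ?_)
    rw [Subgroup.coe_mul, Subgroup.coe_mul, Units.val_mul, Units.val_mul, hs]
    simp
  have comm : ∀ o ∈ Cfsg.oddCore M, ∀ o' ∈ Cfsg.oddCore M, ∃ lam : F, lam ^ 3 = 1 ∧
      ((o : GL (Fin 3) F) : M3) * ((o' : GL (Fin 3) F) : M3) =
        lam • (((o' : GL (Fin 3) F) : M3) * ((o : GL (Fin 3) F) : M3)) := by
    intro o ho o' ho'
    obtain ⟨t, y, ht, hy, htz, hyz, rfl⟩ := dec o ho
    obtain ⟨t', y', ht', hy', htz', hyz', rfl⟩ := dec o' ho'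
    obtain ⟨t'', y'', ht'', -, htz'', hyz'', hyy⟩ := dec (y * y') (mul_mem hy hy')
    have e1 : y⁻¹ * y'⁻¹ = t'' * y''⁻¹ := by
      calc y⁻¹ * y'⁻¹ = z * y * z * (z * y' * z) := by rw [hyz, hyz']
        _ = z * (y * y') * z := by simp only [mul_assoc]; rw [← mul_assoc z z, hzz, one_mul]
        _ = (z * t'' * z) * (z * y'' * z) := by
          rw [hyy]; simp only [mul_assoc]; rw [← mul_assoc z z, hzz, one_mul]
        _ = t'' * y''⁻¹ := by rw [htz'', hyz'']
    have e2 : y'' = t''⁻¹ * (y * y') := by rw [hyy, inv_mul_cancel_left]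
    rw [e2, mul_inv_rev, inv_inv, ← hcen t'' ht'' htz'', ← mul_assoc] at e1
    have e3 : y * y' = (t'' * t'') * (y' * y) := by
      have h3 := congrArg (·⁻¹) e1
      simp only [mul_inv_rev, inv_inv] at h3
      calc y * y' = (t'' * t'') * (y * y' * t''⁻¹ * t''⁻¹) := by
            rw [show y * y' * t''⁻¹ * t''⁻¹ = y * y' * (t'' * t'')⁻¹ by group,
              show (t'' * t'') * (y * y' * (t'' * t'')⁻¹) = (t'' * t'') * (y * y') * (t'' * t'')⁻¹ by group,
              mul_assoc t'' t'', hcen t'' ht'' htz'' (y * y'), ← mul_assoc, hcen t'' ht'' htz'' (y * y')]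
            group
        _ = (t'' * t'') * (y' * y) := by
          rw [h3]
          group
    obtain ⟨s, hs⟩ := scal t'' ht'' htz''
    have hS : ∀ x : M, t'' * t'' * x = x * (t'' * t'') := fun x => by
      rw [mul_assoc, hcen t'' ht'' htz'' x, ← mul_assoc, hcen t'' ht'' htz'' x, mul_assoc]
    have e4 : t * y * (t' * y') = t'' * t'' * (t' * y' * (t * y)) := by
      calc t * y * (t' * y') = t * (y * t') * y' := by group
        _ = t * (t' * y) * y' := by rw [hcen t' ht' htz' y]
        _ = (t * t') * (y * y') := by group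
        _ = (t * t') * (t'' * t'') * (y' * y) := by rw [e3]; group
        _ = t'' * t'' * (t * t') * (y' * y) := by rw [hS]
        _ = t'' * t'' * (t' * t) * (y' * y) := by rw [hcen t ht htz t']
        _ = t'' * t'' * (t' * (t * y') * y) := by group
        _ = t'' * t'' * (t' * (y' * t) * y) := by rw [hcen t ht htz y']
        _ = t'' * t'' * (t' * y' * (t * y)) := by group
    have e5 := congrArg (fun x : M => ((x : GL (Fin 3) F) : M3)) e4
    simp only [Subgroup.coe_mul, Units.val_mul, hs, Matrix.smul_mul, Matrix.mul_smul, one_mul, smul_smul] at e5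
    refine ⟨s * s, ?_, by simpa [Subgroup.coe_mul, Units.val_mul] using e5⟩
    have e6 := congrArg Matrix.det e5
    rw [Matrix.det_smul, Fintype.card_fin] at e6
    have hdet : ∀ x : M, (((x : GL (Fin 3) F)) : M3).det = 1 := fun x =>
      (mem_specialLinear_iff _).1 (T.ov.le x.2).2
    simpa [hdet] using e6.symm
  -- products of two involutions lie in the core
  have hprod : ∀ x x' : M, orderOf x = 2 → orderOf x' = 2 → x * x' ∈ Cfsg.oddCore M := by
    intro x x' hx hx'
    have key : ∀ x : M, orderOf x = 2 → z * x ∈ Cfsg.oddCore M := by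
      intro x hx
      have hxx : x * x = 1 := by rw [← pow_two, ← hx, pow_orderOf_eq_one]
      rcases exists_central_or_conj hzz hxx with ⟨w, rfl⟩ | ⟨z₁, -, -, hz₁, hz₁1, hc1, hc2, -⟩
      · have := CfsgLib.Involutions.ZStar.centralModCore hiso w
        rwa [hzi, mul_assoc (z * w), mul_assoc z, ← mul_assoc w] at this
      · have ho : orderOf z₁ = 2 := orderOf_eq_prime (by rw [pow_two, hz₁]) hz₁1
        have e1 := T.rank _ z.2 _ z₁.2 (by rw [Subgroup.orderOf_coe, hz]) (by rw [Subgroup.orderOf_coe, ho])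
          (congrArg Subtype.val hc1)
        have e2 := T.rank _ x.2 _ z₁.2 (by rw [Subgroup.orderOf_coe, hx]) (by rw [Subgroup.orderOf_coe, ho])
          (congrArg Subtype.val hc2)
        rw [show x = z from Subtype.ext (e2.trans e1.symm), hzz]
        exact one_mem _
    have := mul_mem (inv_mem (key x hx)) (key x' hx')
    rwa [mul_inv_rev, hzi, mul_assoc, ← mul_assoc z z, hzz, one_mul,
      inv_eq_of_mul_eq_one_right (show x * x = 1 by rw [← pow_two, ← hx, pow_orderOf_eq_one])] at this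
  -- the three swaps
  have sw : ∀ u : VV, RatV F₀ u → u ≠ 0 → hh u u = 0 → ∃ x : M, orderOf x = 2 ∧
      ((x : GL (Fin 3) F) : M3) = 1 + Matrix.vecMulVec u (fun i => τ (u i)) := by
    intro u hu hu0 huu
    obtain ⟨x, hx, h, hxv⟩ := inv_of u hu hu0 huu
    refine ⟨x, hx, ?_⟩
    rw [hxv, tv_val, one_smul]
    congr 2
    funext i
    show hh (Pi.single i 1) u = _
    rw [hD.hh_eq]
    fin_cases i <;> simp
  obtain ⟨x₁, hx₁, hX₁⟩ := sw ![1, 1, 0] (fun i => by fin_cases i <;> simp [F₀.one_mem, F₀.zero_mem])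
    (fun e => by simpa using congrFun e 0) (by rw [hD.hh_eq]; simp; linear_combination h2)
  obtain ⟨x₂, hx₂, hX₂⟩ := sw ![0, 1, 1] (fun i => by fin_cases i <;> simp [F₀.one_mem, F₀.zero_mem])
    (fun e => by simpa using congrFun e 1) (by rw [hD.hh_eq]; simp; linear_combination h2)
  obtain ⟨x₃, hx₃, hX₃⟩ := sw ![0, 1, ω] (fun i => by fin_cases i <;> simp [F₀.one_mem, F₀.zero_mem, hω])
    (fun e => by simpa using congrFun e 1) (by rw [hD.hh_eq]; simp [hτω]; linear_combination hω2 + (ω + 1) * h2)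
  obtain ⟨o, ho, e, he, hge⟩ := CfsgLib.Involutions.ZStar.exists_mul_centralizer hiso ⟨g, hg⟩
  have hc : (e : GL (Fin 3) F) * (z : GL (Fin 3) F) = (z : GL (Fin 3) F) * (e : GL (Fin 3) F) :=
    congrArg Subtype.val (Subgroup.mem_centralizer_singleton_iff.1 he)
  rw [hzv] at hc
  have hge' : g = (o : GL (Fin 3) F) * (e : GL (Fin 3) F) := congrArg Subtype.val hge
  rw [hge']
  refine SubFour.RatUpToScalar.mul ?_ (T.cent_rat e.2 hc)
  -- the core element
  obtain ⟨lam, hlam, hP⟩ := comm o ho _ (hprod x₁ x₂ hx₁ hx₂)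
  obtain ⟨lam', -, hQ⟩ := comm o ho _ (hprod x₂ x₃ hx₂ hx₃)
  set G : M3 := ((o : GL (Fin 3) F) : M3) with hG
  have e₁ : ((x₁ : GL (Fin 3) F) : M3) = !![0, 1, 0; 1, 0, 0; 0, 0, 1] := by
    rw [hX₁]
    refine Matrix.ext fun i j => ?_
    rw [Matrix.add_apply, Matrix.vecMulVec_apply]
    fin_cases i <;> fin_cases j <;> simp <;> linear_combination h2
  have e₂ : ((x₂ : GL (Fin 3) F) : M3) = !![1, 0, 0; 0, 0, 1; 0, 1, 0] := by
    rw [hX₂]
    refine Matrix.ext fun i j => ?_
    rw [Matrix.add_apply, Matrix.vecMulVec_apply]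
    fin_cases i <;> fin_cases j <;> simp <;> linear_combination h2
  have e₃ : ((x₃ : GL (Fin 3) F) : M3) = !![1, 0, 0; 0, 0, ω + 1; 0, ω, 0] := by
    rw [hX₃]
    refine Matrix.ext fun i j => ?_
    rw [Matrix.add_apply, Matrix.vecMulVec_apply]
    fin_cases i <;> fin_cases j <;> simp [hτω] <;>
      first
        | linear_combination h2
        | linear_combination hω2 + (ω + 1) * h2
  have hPm : (((x₁ * x₂ : M) : GL (Fin 3) F) : M3) = !![0, 0, 1; 1, 0, 0; 0, 1, 0] := by
    rw [Subgroup.coe_mul, Units.val_mul, e₁, e₂]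
    refine Matrix.ext fun i j => ?_
    fin_cases i <;> fin_cases j <;> simp [Matrix.mul_apply, Fin.sum_univ_three]
  have hQm : (((x₂ * x₃ : M) : GL (Fin 3) F) : M3) = !![1, 0, 0; 0, ω, 0; 0, 0, ω + 1] := by
    rw [Subgroup.coe_mul, Units.val_mul, e₂, e₃]
    refine Matrix.ext fun i j => ?_
    fin_cases i <;> fin_cases j <;> simp [Matrix.mul_apply, Fin.sum_univ_three]
  rw [hPm] at hP
  rw [hQm] at hQ
  exact ratUpToScalar_of_rel hω2 h2 (T.mem_of_cube hlam) _ hP hQ

end CfsgLib.Dim3Max.USub
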